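import Mathlib
import Cfsg.Agent.H60.DE.Data

/-!
# A large divisor prime to the torus (S3677, row `PΩ⁺(2n, q)`, `n` even, piece P4, for helper60)

`hbig`: for `N ∣ M` all of whose primes divide `p m` (or `q = 2`, `t = 3`, or `q = 3`, `t = 2`), and `r ^ a ∣ M`, `r` of
order `d`, there is `D ∣ M / N` prime to `m` with `¬ D ∣ r ^ a - 1`.
-/

set_option autoImplicit false

namespace Cfsg.Agent.H881.CS.HBig

open Finset Cfsg.Agent.H902.Lte Cfsg.Agent.H902.Art Cfsg.Agent.H364.SpVal Cfsg.Agent.H364.DCross Cfsg.Agent.H60.DE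

/-! ### factors of `q ^ (2k+1) ± 1` and `q ^ 2 + 1` -/

theorem ex_minus {q : ℕ} (hq : 2 ≤ q) (k : ℕ) : ∃ b, Odd b ∧ b * (q - 1) = q ^ (2 * k + 1) - 1 ∧ q ^ (2 * k) ≤ b := by
  induction k with
  | zero => exact ⟨1, odd_one, by simp, by simp⟩
  | succ k ih =>
    obtain ⟨b, hb, h1, h2⟩ := ih
    refine ⟨q ^ 2 * b + (q + 1), ?_, ?_, ?_⟩
    · rcases Nat.even_or_odd q with h | h
      · have h3 : Even (q ^ 2 * b) := (h.pow_of_ne_zero (by norm_num)).mul_right b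
        exact h3.add_odd h.add_one
      · exact ((h.pow).mul hb).add_even h.add_one
    · obtain ⟨t, rfl⟩ : ∃ t, q = t + 1 := ⟨q - 1, by omega⟩
      rw [Nat.add_sub_cancel] at h1 ⊢
      have h4 : 1 ≤ (t + 1) ^ (2 * k + 1) := Nat.one_le_pow _ _ (by omega)
      have h5 : b * t + 1 = (t + 1) ^ (2 * k + 1) := by omega
      have h6 : (t + 1) ^ (2 * (k + 1) + 1) = (t + 1) ^ 2 * (b * t + 1) := by rw [h5]; ring
      rw [h6]
      have h7 : (t + 1) ^ 2 * (b * t + 1) = ((t + 1) ^ 2 * b + (t + 1 + 1)) * t + 1 := by ring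
      rw [h7, Nat.add_sub_cancel]
    · have h8 : q ^ (2 * (k + 1)) = q ^ 2 * q ^ (2 * k) := by ring
      rw [h8]
      have := Nat.mul_le_mul_left (q ^ 2) h2
      omega

theorem ex_plus {q : ℕ} (hq : 2 ≤ q) (k : ℕ) : ∃ b, Odd b ∧ b * (q + 1) = q ^ (2 * k + 1) + 1 := by
  induction k with
  | zero => exact ⟨1, odd_one, by simp⟩
  | succ k ih =>
    obtain ⟨b, hb, h1⟩ := ih
    have hb1 : 1 ≤ b := hb.pos
    obtain ⟨t, rfl⟩ : ∃ t, q = t + 1 := ⟨q - 1, by omega⟩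
    have h3 : t ≤ (t + 1) ^ 2 * b := by nlinarith
    obtain ⟨c, hc⟩ := Nat.exists_eq_add_of_le' h3
    refine ⟨c, ?_, ?_⟩
    · rcases Nat.even_or_odd (t + 1) with h | h
      · have h4 : Even ((t + 1) ^ 2 * b) := (h.pow_of_ne_zero (by norm_num)).mul_right b
        have h5 : Odd t := by
          rcases Nat.even_or_odd t with h6 | h6
          · exact absurd h (Nat.not_even_iff_odd.2 h6.add_one)
          · exact h6
        rw [hc] at h4
        rcases Nat.even_or_odd c with h6 | h6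
        · exact absurd h4 (Nat.not_even_iff_odd.2 (h6.add_odd h5))
        · exact h6
      · have h4 : Odd ((t + 1) ^ 2 * b) := (h.pow).mul hb
        have h5 : Even t := by
          rcases Nat.even_or_odd t with h6 | h6
          · exact h6
          · exact absurd h6.add_one (Nat.not_even_iff_odd.2 h)
        rw [hc] at h4
        rcases Nat.even_or_odd c with h6 | h6
        · exact absurd (h6.add h5) (Nat.not_even_iff_odd.2 h4)
        · exact h6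
    · have h6 : (t + 1) ^ (2 * (k + 1) + 1) + (t + 1) ^ 2 = (t + 1) ^ 2 * (b * (t + 1 + 1)) := by
        rw [h1]; ring
      have h7 : (t + 1) ^ 2 * (b * (t + 1 + 1)) = (c + t) * (t + 1 + 1) := by rw [← hc]; ring
      have h8 : (c + t) * (t + 1 + 1) + 1 = c * (t + 1 + 1) + (t + 1) ^ 2 := by ring
      omega

theorem ex_c {q : ℕ} (hq : 2 ≤ q) : ∃ c, Odd c ∧ c ∣ q ^ 2 + 1 ∧ q ^ 2 + 1 ≤ 2 * c := by
  rcases Nat.even_or_odd q with h | h
  · exact ⟨q ^ 2 + 1, (h.pow_of_ne_zero (by norm_num)).add_one, dvd_refl _, by omega⟩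
  · obtain ⟨k, rfl⟩ := h
    refine ⟨2 * (k ^ 2 + k) + 1, ⟨_, rfl⟩, ⟨2, by ring⟩, by nlinarith⟩

/-! ### coprimality -/

/-- numbers dividing `q^(2 (2k+1)) - 1` are prime to the odd divisors of `q ^ 2 + 1` -/
theorem cop_c {q k c x : ℕ} (hq : 2 ≤ q) (hc : Odd c) (hcd : c ∣ q ^ 2 + 1) (hx : x ∣ q ^ (2 * (2 * k + 1)) - 1) :
    Nat.Coprime c x := by
  apply Nat.Coprime.coprime_dvd_right hx
  rw [Nat.coprime_iff_gcd_eq_one]
  by_contra hne
  obtain ⟨t, ht, htd⟩ := Nat.exists_prime_and_dvd hne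
  have h1 : t ∣ q ^ 2 + 1 := (htd.trans (Nat.gcd_dvd_left _ _)).trans hcd
  have h2 : t ∣ q ^ (2 * (2 * k + 1)) - 1 := htd.trans (Nat.gcd_dvd_right _ _)
  have h3 : q ^ 2 + 1 ∣ (q ^ 2) ^ (2 * k + 1) + 1 ^ (2 * k + 1) := Odd.nat_add_dvd_pow_add_pow _ _ ⟨k, rfl⟩
  rw [one_pow, ← pow_mul] at h3
  have h4 : t ∣ q ^ (2 * (2 * k + 1)) + 1 := h1.trans h3
  have h5 : 1 ≤ q ^ (2 * (2 * k + 1)) := Nat.one_le_pow _ _ (by omega)
  have h6 : t ∣ (q ^ (2 * (2 * k + 1)) + 1) - (q ^ (2 * (2 * k + 1)) - 1) := Nat.dvd_sub h4 h2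
  have h7 : (q ^ (2 * (2 * k + 1)) + 1) - (q ^ (2 * (2 * k + 1)) - 1) = 2 := by omega
  rw [h7] at h6
  have h8 : t = 2 := (Nat.prime_dvd_prime_iff_eq ht Nat.prime_two).1 h6
  subst h8
  exact (Nat.not_even_iff_odd.2 hc) (even_iff_two_dvd.2 (htd.trans (Nat.gcd_dvd_left _ _)))

/-- an odd divisor of `x - 1` is prime to the divisors of `x + 1` -/
theorem cop_pm {x b y : ℕ} (hx : 1 ≤ x) (hb : Odd b) (h1 : b ∣ x - 1) (h2 : ∀ t : ℕ, t.Prime → t ∣ y → t ∣ x + 1) :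
    Nat.Coprime b y := by
  rw [Nat.coprime_iff_gcd_eq_one]
  by_contra hne
  obtain ⟨t, ht, htd⟩ := Nat.exists_prime_and_dvd hne
  have h3 : t ∣ x - 1 := (htd.trans (Nat.gcd_dvd_left _ _)).trans h1
  have h4 : t ∣ x + 1 := h2 t ht (htd.trans (Nat.gcd_dvd_right _ _))
  have h6 : t ∣ (x + 1) - (x - 1) := Nat.dvd_sub h4 h3
  have h7 : (x + 1) - (x - 1) = 2 := by omega
  rw [h7] at h6
  have h8 : t = 2 := (Nat.prime_dvd_prime_iff_eq ht Nat.prime_two).1 h6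
  subst h8
  exact (Nat.not_even_iff_odd.2 hb) (even_iff_two_dvd.2 (htd.trans (Nat.gcd_dvd_left _ _)))

theorem cop_mp {x b y : ℕ} (hx : 1 ≤ x) (hb : Odd b) (h1 : b ∣ x + 1) (h2 : ∀ t : ℕ, t.Prime → t ∣ y → t ∣ x - 1) :
    Nat.Coprime b y := by
  rw [Nat.coprime_iff_gcd_eq_one]
  by_contra hne
  obtain ⟨t, ht, htd⟩ := Nat.exists_prime_and_dvd hne
  have h3 : t ∣ x + 1 := (htd.trans (Nat.gcd_dvd_left _ _)).trans h1
  have h4 : t ∣ x - 1 := h2 t ht (htd.trans (Nat.gcd_dvd_right _ _))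
  have h6 : t ∣ (x + 1) - (x - 1) := Nat.dvd_sub h3 h4
  have h7 : (x + 1) - (x - 1) = 2 := by omega
  rw [h7] at h6
  have h8 : t = 2 := (Nat.prime_dvd_prime_iff_eq ht Nat.prime_two).1 h6
  subst h8
  exact (Nat.not_even_iff_odd.2 hb) (even_iff_two_dvd.2 (htd.trans (Nat.gcd_dvd_left _ _)))

/-! ### the prime `r` -/

theorem P_r_le {n p f M r : ℕ} (hY : Real (.D n) p f M) (hr : r.Prime)
    (ho : orderOf ((p ^ f : ℕ) : ZMod r) = 2 * (n - 1) ∨ (orderOf ((p ^ f : ℕ) : ZMod r) = n - 1 ∧ Odd (n - 1))) :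
    P r M ≤ (p ^ f) ^ (n - 1) + 1 := by
  have hn : 4 ≤ n := hY.ok
  have hq2 := hY.q_ge
  have : Fact r.Prime := ⟨hr⟩
  have hrp : r ≠ p := by
    rintro rfl
    have h1 : ((r ^ f : ℕ) : ZMod r) = 0 := by
      rw [ZMod.natCast_eq_zero_iff]
      exact dvd_pow_self r (by have := hY.hf; omega)
    rw [h1, orderOf_zero] at ho
    omega
  have hvq := hY.not_dvd_q hr hrp
  refine (P_le_AA hY hr hrp).trans ?_
  generalize p ^ f = q at *
  have h2 : orderOf ((q ^ 2 : ℕ) : ZMod r) = n - 1 := by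
    rw [Nat.cast_pow]
    rcases ho with ho | ⟨ho, hodd⟩
    · rw [orderOf_pow_of_dvd (by norm_num) (by rw [ho]; exact dvd_mul_right 2 _), ho]
      omega
    · rw [Nat.Coprime.orderOf_pow (by rw [ho]; exact hodd.coprime_two_right), ho]
  have hr2 : r ≠ 2 := by
    rintro rfl
    have h3 : orderOf ((q ^ 2 : ℕ) : ZMod 2) ≤ 1 := by
      have hodd : ¬ 2 ∣ q ^ 2 := fun h => hvq (Nat.prime_two.dvd_of_dvd_pow h)
      have h4 : ((q ^ 2 : ℕ) : ZMod 2) = 1 := by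
        rw [← Nat.cast_one, ZMod.natCast_eq_natCast_iff]
        show q ^ 2 % 2 = 1 % 2
        omega
      rw [h4, orderOf_one]
    omega
  have h3 := P_le_of_order (n := n) hr hr2 hq2 hvq (by omega)
  rwa [h2] at h3

/-! ### from a large number `D` -/

/-- the end of the argument -/
theorem fin {n p f M m N r a D : ℕ} (hN : N ∣ M)
    (hNt : ∀ t : ℕ, t.Prime → t ∣ N → t = p ∨ t ∣ m ∨ (p ^ f = 2 ∧ t = 3) ∨ (p ^ f = 3 ∧ t = 2))
    (hr : r.Prime) (hP : P r M ≤ (p ^ f) ^ (n - 1) + 1) (ha : 1 ≤ a) (har : a ≤ M.factorization r)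
    (hDM : D ∣ M) (hDm : D.Coprime m) (hDp : ¬ p ∣ D) (h2 : p ^ f = 2 → ¬ 3 ∣ D) (h3 : p ^ f = 3 → ¬ 2 ∣ D)
    (hD : (p ^ f) ^ (n - 1) < D) : ∃ D, D ∣ M / N ∧ D.Coprime m ∧ ¬ D ∣ r ^ a - 1 := by
  refine ⟨D, ?_, hDm, ?_⟩
  · have hc : D.Coprime N := by
      rw [Nat.coprime_iff_gcd_eq_one]
      by_contra hne
      obtain ⟨t, ht, htd⟩ := Nat.exists_prime_and_dvd hne
      have h4 : t ∣ D := htd.trans (Nat.gcd_dvd_left _ _)
      rcases hNt t ht (htd.trans (Nat.gcd_dvd_right _ _)) with h | h | ⟨h, h'⟩ | ⟨h, h'⟩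
      · exact hDp (h ▸ h4)
      · have h5 := Nat.dvd_gcd h4 h
        rw [Nat.coprime_iff_gcd_eq_one.1 hDm] at h5
        exact ht.one_lt.ne' (Nat.dvd_one.1 h5)
      · exact h2 h (h' ▸ h4)
      · exact h3 h (h' ▸ h4)
    have h5 : D ∣ N * (M / N) := by rw [Nat.mul_div_cancel' hN]; exact hDM
    exact hc.dvd_of_dvd_mul_left h5
  · intro h4
    have h5 : r ^ a ≤ P r M := Nat.pow_le_pow_right hr.pos har
    have h6 : 2 ≤ r ^ a := by
      calc 2 ≤ r ^ 1 := by rw [pow_one]; exact hr.two_le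
        _ ≤ r ^ a := Nat.pow_le_pow_right hr.pos ha
    have h7 := Nat.le_of_dvd (by omega) h4
    omega

/-- odd divisors of the product prime to the characteristic divide the order -/
theorem dvd_M {n p f M D : ℕ} (hY : Real (.D n) p f M) (hD : Odd D) (h : D ∣ AA (n - 1) (p ^ f)) : D ∣ M := by
  have h1 := hY.eq
  have h2 : D ∣ dd (.D n) (p ^ f) * M := by
    rw [h1]
    exact (h.trans AA_dvd_num).trans (Dvd.intro_left _ rfl)
  have h3 : Nat.Coprime D (dd (.D n) (p ^ f)) := by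
    refine Nat.Coprime.coprime_dvd_right (Nat.gcd_dvd_left 4 ((p ^ f) ^ n - 1)) ?_
    exact Nat.Coprime.pow_right 2 hD.coprime_two_right
  exact h3.dvd_of_dvd_mul_left h2

theorem factor_dvd_AA {n q i : ℕ} (h1 : 1 ≤ i) (h2 : i ≤ n) : q ^ (2 * i) - 1 ∣ AA n q := by
  have h3 : i - 1 ∈ range n := mem_range.2 (by omega)
  have h4 := Finset.dvd_prod_of_mem (fun i => q ^ (2 * (i + 1)) - 1) h3
  have h5 : i - 1 + 1 = i := by omega
  rw [h5] at h4
  exact h4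

theorem c_dvd_AA {n q c : ℕ} (hq : 2 ≤ q) (hn : 2 ≤ n) (h : c ∣ q ^ 2 + 1) : c ∣ AA n q := by
  refine (h.trans ?_).trans (factor_dvd_AA (i := 2) (by norm_num) hn)
  obtain ⟨t, ht⟩ : ∃ t, q ^ 2 = t + 1 := ⟨q ^ 2 - 1, by have := Nat.one_le_pow 2 q (by omega); omega⟩
  refine ⟨t, ?_⟩
  have h1 : q ^ (2 * 2) = (t + 1 + 1) * t + 1 := by
    rw [pow_mul, ht]; ring
  rw [h1, ht, Nat.add_sub_cancel]

theorem not_dvd_AA {n p q : ℕ} (hp : p.Prime) (hq : p ∣ q) (hq1 : 2 ≤ q) : ¬ p ∣ AA n q := by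
  intro h
  rw [AA, Prime.dvd_finsetProd_iff hp.prime] at h
  obtain ⟨i, -, h1⟩ := h
  have h2 : p ∣ q ^ (2 * (i + 1)) := dvd_pow hq (by omega)
  have h3 : 1 ≤ q ^ (2 * (i + 1)) := Nat.one_le_pow _ _ (by omega)
  have h4 := (Nat.dvd_sub h2 h1)
  rw [Nat.sub_sub_self h3] at h4
  exact hp.one_lt.ne' (Nat.dvd_one.1 h4)

/-- the number `D = b c` -/
theorem mul_case {n p f M m N r a b c k : ℕ} (hY : Real (.D n) p f M) (hN : N ∣ M)
    (hNt : ∀ t : ℕ, t.Prime → t ∣ N → t = p ∨ t ∣ m ∨ (p ^ f = 2 ∧ t = 3) ∨ (p ^ f = 3 ∧ t = 2))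
    (hr : r.Prime) (hP : P r M ≤ (p ^ f) ^ (n - 1) + 1) (ha : 1 ≤ a) (har : a ≤ M.factorization r)
    (hk : n - 1 = 2 * k + 1) (hb : Odd b) (hc : Odd c) (hcd : c ∣ (p ^ f) ^ 2 + 1)
    (hbd : b ∣ (p ^ f) ^ (2 * (2 * k + 1)) - 1) (hm : m ∣ ((p ^ f) ^ (2 * (2 * k + 1)) - 1) ^ 2)
    (hbm : b.Coprime m) (hq2 : p ^ f ≠ 2) (hbc : (p ^ f) ^ (n - 1) < b * c) :
    ∃ D, D ∣ M / N ∧ D.Coprime m ∧ ¬ D ∣ r ^ a - 1 := by
  have hn : 4 ≤ n := hY.ok
  have hq := hY.q_ge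
  have hcb : Nat.Coprime c b := cop_c hq hc hcd hbd
  have hcm : Nat.Coprime c m := Nat.Coprime.coprime_dvd_right hm (Nat.Coprime.pow_right 2 (cop_c hq hc hcd (dvd_refl _)))
  have hAA : b * c ∣ AA (n - 1) (p ^ f) := by
    apply Nat.Coprime.mul_dvd_of_dvd_of_dvd hcb.symm
    · refine hbd.trans ?_
      rw [← hk]
      exact factor_dvd_AA (by omega) le_rfl
    · exact c_dvd_AA hq (by omega) hcd
  refine fin hN hNt hr hP ha har (dvd_M hY (hb.mul hc) hAA) (Nat.Coprime.mul_left hbm hcm) ?_ ?_ ?_ hbc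
  · intro h
    exact not_dvd_AA hY.hp (dvd_pow_self p (by have := hY.hf; omega)) hq (h.trans hAA)
  · intro h; exact absurd h hq2
  · intro _ h
    exact (Nat.not_even_iff_odd.2 (hb.mul hc)) (even_iff_two_dvd.2 h)

/-! ### `q = 2` -/

theorem P_three_le {k : ℕ} (hk : 1 ≤ k) : P 3 (4 ^ k - 1) ≤ 3 * k := by
  have : Fact (Nat.Prime 3) := ⟨Nat.prime_three⟩
  have h1 := padicValNat.pow_sub_pow (p := 3) (x := 4) (y := 1) (by norm_num) (by norm_num) (by norm_num)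
    (by norm_num) (n := k) (by omega)
  rw [one_pow] at h1
  rw [P, Nat.factorization_def _ Nat.prime_three, h1, show 4 - 1 = 3 by norm_num, padicValNat_self, pow_add, pow_one]
  apply Nat.mul_le_mul_left
  exact Nat.le_of_dvd (by omega) pow_padicValNat_dvd

theorem est_two {k S : ℕ} (hk : 2 ≤ k) (hS : (4 ^ k - 1) ≤ S * (3 * k)) (h2 : k = 2 → 5 ≤ S) : 4 ^ k < 2 * S ^ 2 := by
  rcases Nat.eq_or_lt_of_le hk with h | h
  · subst h
    have := h2 rfl
    have h3 : 5 ^ 2 ≤ S ^ 2 := Nat.pow_le_pow_left this 2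
    omega
  · -- `9 k² 4^k < 2 (4^k - 1)²`
    have h3 : 9 * k ^ 2 + 4 ≤ 2 * 4 ^ k := by
      clear h2 hS hk
      induction k, h using Nat.le_induction with
      | base => norm_num
      | succ j hj ih =>
        have h9 : 3 ≤ j := hj
        have h10 : 4 ^ (j + 1) = 4 * 4 ^ j := by ring
        rw [h10]
        nlinarith
    have h4 : (4 ^ k - 1) ^ 2 ≤ (S * (3 * k)) ^ 2 := Nat.pow_le_pow_left hS 2
    obtain ⟨X, hX⟩ : ∃ X, 4 ^ k = X + 1 := ⟨4 ^ k - 1, by have := Nat.one_le_pow k 4 (by norm_num); omega⟩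
    rw [hX] at h3 h4 ⊢
    rw [Nat.add_sub_cancel] at h4
    have h5 : (S * (3 * k)) ^ 2 = S ^ 2 * (9 * k ^ 2) := by ring
    rw [h5] at h4
    by_contra hcon
    push Not at hcon
    -- `2 X² ≤ 2 S² 9 k² ≤ (X + 1) 9 k² ≤ (X + 1) (2 X - 2)`
    have h6 : 2 * S ^ 2 * (9 * k ^ 2) ≤ (X + 1) * (9 * k ^ 2) := Nat.mul_le_mul_right _ hcon
    have h7 : 9 * k ^ 2 ≤ 2 * X - 2 := by omega
    have h8 : (X + 1) * (9 * k ^ 2) ≤ (X + 1) * (2 * X - 2) := Nat.mul_le_mul_left _ h7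
    have h9 : (X + 1) * (2 * X - 2) + 2 = 2 * X ^ 2 := by
      obtain ⟨Y, rfl⟩ : ∃ Y, X = Y + 1 := ⟨X - 1, by omega⟩
      rw [show 2 * (Y + 1) - 2 = 2 * Y by omega]
      ring
    nlinarith

/-- **P4** -/
theorem hbig {n p f M d m N r a : ℕ} (hY : Real (.D n) p f M) (hev : n % 2 = 0) (hnum : Num n (p ^ f) d m)
    (hN : N ∣ M) (hNt : ∀ t : ℕ, t.Prime → t ∣ N → t = p ∨ t ∣ m ∨ (p ^ f = 2 ∧ t = 3) ∨ (p ^ f = 3 ∧ t = 2))
    (hr : r.Prime) (hrd : orderOf ((p ^ f : ℕ) : ZMod r) = d) (ha : 1 ≤ a) (har : a ≤ M.factorization r) :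
    ∃ D, D ∣ M / N ∧ D.Coprime m ∧ ¬ D ∣ r ^ a - 1 := by
  have hn : 4 ≤ n := hY.ok
  have hq := hY.q_ge
  obtain ⟨k, hk⟩ : ∃ k, n - 1 = 2 * k + 1 := ⟨(n - 2) / 2, by omega⟩
  have hk1 : 1 ≤ k := by omega
  have hodd : Odd (n - 1) := ⟨k, hk⟩
  have hP : P r M ≤ (p ^ f) ^ (n - 1) + 1 := by
    apply P_r_le hY hr
    rcases hnum with ⟨h, -⟩ | ⟨h, -⟩
    · exact Or.inl (hrd.trans h)
    · exact Or.inr ⟨hrd.trans h, hodd⟩
  have hx1 : 1 ≤ (p ^ f) ^ (2 * k + 1) := Nat.one_le_pow _ _ (by omega)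
  -- `q^(2(2k+1)) - 1 = (q^(2k+1) - 1) (q^(2k+1) + 1)`
  have hfac : (p ^ f) ^ (2 * (2 * k + 1)) - 1 = ((p ^ f) ^ (2 * k + 1) - 1) * ((p ^ f) ^ (2 * k + 1) + 1) := by
    obtain ⟨t, ht⟩ := Nat.exists_eq_add_of_le' hx1
    rw [mul_comm 2, pow_mul, ht, Nat.add_sub_cancel]
    have : (t + 1) ^ 2 = t * (t + 1 + 1) + 1 := by ring
    rw [this, Nat.add_sub_cancel]
  obtain ⟨c, hc, hcd, hc2⟩ := ex_c hq
  rcases hnum with ⟨-, hm, hq4⟩ | ⟨-, hm, hq4⟩
  · -- `d = 2 (n - 1)`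
    obtain ⟨b, hb, hb1, hb2⟩ := ex_minus hq k
    have hp1 : (p ^ f) + 1 ∣ (p ^ f) ^ (2 * k + 1) + 1 := by
      have := Odd.nat_add_dvd_pow_add_pow (p ^ f) 1 (⟨k, rfl⟩ : Odd (2 * k + 1))
      rwa [one_pow] at this
    rw [hk] at hm
    have hbd : b ∣ (p ^ f) ^ (2 * k + 1) - 1 := Dvd.intro _ hb1
    have hmd : m ∣ ((p ^ f) ^ (2 * k + 1) + 1) * (p ^ f + 1) := Dvd.intro _ hm
    refine mul_case (b := b) (c := c) hY hN hNt hr hP ha har hk hb hc hcd ?_ ?_ ?_ ?_ ?_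
    · rw [hfac]; exact hbd.mul_right _
    · refine hmd.trans ?_
      rw [hfac, pow_two]
      exact Nat.mul_dvd_mul (Dvd.intro_left _ rfl) (hp1.trans (Dvd.intro_left _ rfl))
    · apply Nat.Coprime.coprime_dvd_right hmd
      apply cop_pm hx1 hb hbd
      intro t ht h
      rcases (Nat.Prime.dvd_mul ht).1 h with h | h
      · exact h
      · exact h.trans hp1
    · omega
    · -- `q^(2k+1) < q^(2k) (q²+1) / 2 ≤ b c`
      rw [hk]
      have h1 : 2 * (p ^ f) ^ (2 * k + 1) < 2 * (b * c) := by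
        have h2 : (p ^ f) ^ (2 * k + 1) = (p ^ f) ^ (2 * k) * (p ^ f) := pow_succ _ _
        have h3 : 2 * (p ^ f) < (p ^ f) ^ 2 + 1 := by nlinarith
        have h4 : 0 < (p ^ f) ^ (2 * k) := by positivity
        calc 2 * (p ^ f) ^ (2 * k + 1) = (p ^ f) ^ (2 * k) * (2 * (p ^ f)) := by rw [h2]; ring
          _ < (p ^ f) ^ (2 * k) * ((p ^ f) ^ 2 + 1) := Nat.mul_lt_mul_of_pos_left h3 h4
          _ ≤ b * (2 * c) := Nat.mul_le_mul hb2 hc2
          _ = _ := by ring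
      omega
  · rw [hk] at hm
    by_cases hq2 : p ^ f = 2
    · -- `q = 2`
      rw [hq2] at hm hP
      have hp2 : p = 2 := by
        have h1 : p ∣ 2 := by rw [← hq2]; exact dvd_pow_self p (by have := hY.hf; omega)
        exact (Nat.prime_dvd_prime_iff_eq hY.hp Nat.prime_two).1 h1
      obtain ⟨j, hj⟩ : ∃ j, n = 2 * j := ⟨n / 2, by omega⟩
      have hj2 : 2 ≤ j := by omega
      have h4j : 2 ^ n = 4 ^ j := by rw [hj, pow_mul]; norm_num
      have h4j1 : 16 ≤ 4 ^ j := by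
        calc 16 = 4 ^ 2 := by norm_num
          _ ≤ 4 ^ j := Nat.pow_le_pow_right (by norm_num) hj2
      set A := 4 ^ j - 1 with hA
      have hA0 : A ≠ 0 := by omega
      have hAodd : Odd A := by
        have h1 : Even (4 ^ j) := (show Even 4 by decide).pow_of_ne_zero (by omega)
        rcases Nat.even_or_odd A with h | h
        · exfalso
          have h2 : Odd (4 ^ j) := by
            have : 4 ^ j = A + 1 := by omega
            rw [this]; exact h.add_one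
          exact (Nat.not_even_iff_odd.2 h2) h1
        · exact h
      set S := A / P 3 A with hS
      have hPS : P 3 A * S = A := Nat.mul_div_cancel' (P_dvd 3 A)
      have hS3 : ¬ 3 ∣ S := by
        rw [hS, P]
        exact Nat.not_dvd_ordCompl Nat.prime_three hA0
      have hSA : S ∣ A := Dvd.intro_left _ hPS
      have hSodd : Odd S := Odd.of_dvd_nat hAodd hSA
      have hAM : A ^ 2 ∣ M := by
        have h1 := hY.eq
        have h2 : dd (.D n) (p ^ f) = 1 := by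
          show Nat.gcd 4 ((p ^ f) ^ n - 1) = 1
          rw [hq2, h4j, ← hA]
          exact Nat.Coprime.pow_left 2 hAodd.coprime_two_left
        rw [h2, one_mul] at h1
        rw [h1]
        refine Dvd.dvd.mul_left ?_ _
        have h3 : num (.D n) (p ^ f) = ((p ^ f) ^ n - 1) * AA (n - 1) (p ^ f) := rfl
        rw [h3, hq2, h4j, ← hA, pow_two]
        apply Nat.mul_dvd_mul_left
        have h5 := factor_dvd_AA (n := n - 1) (q := 2) (i := j) (by omega) (by omega)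
        have h6 : 2 ^ (2 * j) - 1 = A := by rw [hA, pow_mul]; norm_num
        rwa [h6] at h5
      have hcop : Nat.Coprime A m := by
        have h1 : m ∣ 2 ^ (2 * k + 1) - 1 := by
          refine Dvd.intro (Nat.gcd 4 (2 ^ n - 1)) ?_
          rw [hm]; norm_num
        apply Nat.Coprime.coprime_dvd_right h1
        rw [hA, ← h4j, Nat.coprime_iff_gcd_eq_one, Nat.pow_sub_one_gcd_pow_sub_one]
        have h2 : Nat.gcd n (2 * k + 1) = 1 := by
          have h3 : n = (2 * k + 1) + 1 := by omega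
          rw [h3, Nat.gcd_comm, Nat.gcd_self_add_right, Nat.gcd_one_right]
        rw [h2, pow_one]
      have hP3 := P_three_le (show 1 ≤ j by omega)
      rw [← hA] at hP3
      have hSl : 4 ^ j - 1 ≤ S * (3 * j) := by
        rw [← hA]
        calc A = P 3 A * S := hPS.symm
          _ ≤ (3 * j) * S := Nat.mul_le_mul_right _ hP3
          _ = _ := mul_comm _ _
      have hest := est_two hj2 hSl (by
        intro h
        rw [h] at hA
        have hA15 : A = 15 := by rw [hA]; norm_num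
        have h1 : P 3 A = 3 := by
          rw [hA15]
          have : 15 = 3 ^ 1 * 5 := by norm_num
          rw [this, P_pow_self Nat.prime_three (by norm_num)]
          norm_num
        rw [h1, hA15] at hPS
        omega)
      refine fin (n := n) (D := S ^ 2) hN hNt hr (by rw [hq2]; exact hP) ha har ((pow_dvd_pow_of_dvd hSA 2).trans hAM)
        (Nat.Coprime.pow_left 2 (hcop.coprime_dvd_left hSA)) ?_ ?_ ?_ ?_
      · intro h
        rw [hp2] at h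
        exact (Nat.not_even_iff_odd.2 (hSodd.pow)) (even_iff_two_dvd.2 h)
      · intro _ h
        exact hS3 (Nat.prime_three.dvd_of_dvd_pow h)
      · intro h; omega
      · rw [hq2]
        have h1 : 2 * 2 ^ (n - 1) = 4 ^ j := by
          rw [← h4j, ← pow_succ']
          congr 1; omega
        omega
    · -- `q % 4 = 3`
      have hq43 : (p ^ f) % 4 = 3 := by
        rcases hq4 with h | h
        · exact h
        · exact absurd h hq2
      have hq3 : 3 ≤ p ^ f := by omega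
      obtain ⟨b, hb, hb1⟩ := ex_plus hq k
      have hbd : b ∣ (p ^ f) ^ (2 * k + 1) + 1 := Dvd.intro _ hb1
      have hmd : m ∣ ((p ^ f) ^ (2 * k + 1) - 1) * (p ^ f - 1) := Dvd.intro _ hm
      have hm1 : (p ^ f) - 1 ∣ (p ^ f) ^ (2 * k + 1) - 1 := Nat.sub_one_dvd_pow_sub_one _ _
      refine mul_case (b := b) (c := c) hY hN hNt hr hP ha har hk hb hc hcd ?_ ?_ ?_ ?_ ?_
      · rw [hfac]; exact hbd.mul_left _
      · refine hmd.trans ?_
        rw [hfac, pow_two]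
        exact Nat.mul_dvd_mul (Dvd.intro _ rfl) (hm1.trans (Dvd.intro _ rfl))
      · apply Nat.Coprime.coprime_dvd_right hmd
        apply cop_mp hx1 hb hbd
        intro t ht h
        rcases (Nat.Prime.dvd_mul ht).1 h with h | h
        · exact h
        · exact h.trans hm1
      · exact hq2
      · rw [hk]
        -- `2 (q + 1) b c ≥ (q^(2k+1) + 1) (q² + 1) > 2 (q + 1) q^(2k+1)`
        by_contra hcon
        push Not at hcon
        have h1 : (b * (p ^ f + 1)) * ((p ^ f) ^ 2 + 1) ≤ (b * (p ^ f + 1)) * (2 * c) := Nat.mul_le_mul_left _ hc2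
        have h2 : (b * (p ^ f + 1)) * (2 * c) = (b * c) * (2 * (p ^ f + 1)) := by ring
        have h3 : (b * c) * (2 * (p ^ f + 1)) ≤ (p ^ f) ^ (2 * k + 1) * (2 * (p ^ f + 1)) := Nat.mul_le_mul_right _ hcon
        rw [hb1] at h1
        have h4 : 2 * (p ^ f + 1) ≤ (p ^ f) ^ 2 + 1 := by nlinarith
        have h5 : ((p ^ f) ^ (2 * k + 1) + 1) * (2 * (p ^ f + 1)) ≤ ((p ^ f) ^ (2 * k + 1) + 1) * ((p ^ f) ^ 2 + 1) :=
          Nat.mul_le_mul_left _ h4
        rw [hb1] at h2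
        have h6 : ((p ^ f) ^ (2 * k + 1) + 1) * (2 * (p ^ f + 1)) =
          (p ^ f) ^ (2 * k + 1) * (2 * (p ^ f + 1)) + 2 * (p ^ f + 1) := by ring
        omega

end Cfsg.Agent.H881.CS.HBig
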