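import Mathlib
import Cfsg.Agent.H881.CS.TorusThree
import Cfsg.Agent.H431.CS.Defs
import Cfsg.Agent.S0243

/-!
# S3677, PSL₃(q): lower bounds for the class sizes (helper881)
-/

set_option autoImplicit false

namespace Cfsg.Agent.H881.CS

open Matrix Module Cfsg.Agent.H363.PslSpec Cfsg.Agent.H363

universe u v

variable {F : Type u} [Field F]

abbrev SL3 (F : Type u) [Field F] := Matrix.SpecialLinearGroup (Fin 3) F

/-- the elements commuting with `X` modulo scalars -/
noncomputable abbrev DD (X : SL3 F) : Subgroup (SL3 F) :=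
  (Subgroup.centralizer ({pr F 3 X} : Set (ProjectiveSpecialLinearGroup (Fin 3) F))).comap (pr F 3)

theorem comm_mem_center {X g : SL3 F} (hg : g ∈ DD X) : g * X * g⁻¹ * X⁻¹ ∈ Subgroup.center (SL3 F) := by
  have hgX : Commute (pr F 3 X) (pr F 3 g) := (Subgroup.mem_centralizer_iff.1 (Subgroup.mem_comap.1 hg)) _ rfl
  rw [← (QuotientGroup.eq_one_iff (N := Subgroup.center (SL3 F)))]
  show pr F 3 (g * X * g⁻¹ * X⁻¹) = 1
  rw [map_mul, map_mul, map_mul, ← hgX.eq, map_inv, map_inv]
  group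

/-- `g X = c X g` for a scalar `c` -/
theorem exists_scalar {X g : SL3 F} (hg : g ∈ DD X) : ∃ c : F, c ^ 3 = 1 ∧
    ((g * X * g⁻¹ * X⁻¹ : SL3 F) : Matrix (Fin 3) (Fin 3) F) = scalar (Fin 3) c ∧
    (g : Matrix (Fin 3) (Fin 3) F) * (X : Matrix (Fin 3) (Fin 3) F) =
      c • ((X : Matrix (Fin 3) (Fin 3) F) * (g : Matrix (Fin 3) (Fin 3) F)) := by
  obtain ⟨c, hc, hcz⟩ := Matrix.SpecialLinearGroup.mem_center_iff.mp (comm_mem_center hg)
  rw [Fintype.card_fin] at hc
  refine ⟨c, hc, hcz.symm, ?_⟩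
  have h1 : g * X = (g * X * g⁻¹ * X⁻¹) * X * g := by group
  have h2 := congrArg (fun w : SL3 F => (w : Matrix (Fin 3) (Fin 3) F)) h1
  simp only [Matrix.SpecialLinearGroup.coe_mul (g * X * g⁻¹ * X⁻¹ * X), Matrix.SpecialLinearGroup.coe_mul (g * X * g⁻¹ * X⁻¹),
    ← hcz] at h2
  have h3 : (scalar (Fin 3) c : Matrix (Fin 3) (Fin 3) F) = c • (1 : Matrix (Fin 3) (Fin 3) F) := by
    ext i j
    fin_cases i <;> fin_cases j <;> simp
  rw [h3, Matrix.mul_assoc, Matrix.smul_mul, Matrix.one_mul] at h2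
  rw [← h2]
  rfl

variable [Finite F]

theorem card_center_SL {n : ℕ} (hn : 0 < n) :
    Nat.card (Subgroup.center (Matrix.SpecialLinearGroup (Fin n) F)) = Nat.gcd n (Nat.card F - 1) := by
  have : Fintype F := Fintype.ofFinite F
  have : Nonempty (Fin n) := ⟨⟨0, hn⟩⟩
  rw [Nat.card_congr (Matrix.SpecialLinearGroup.center_equiv_rootsOfUnity'
      (n := Fin n) (R := F) ⟨0, hn⟩).toEquiv, rootsOfUnity_eq_ker,
      IsCyclic.card_powMonoidHom_ker, Nat.card_units, Fintype.card_fin, Nat.gcd_comm]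

/-- **Class bound, first form**: `|C_S(s)| ≤ q² (q³ - 1)` for `s ≠ 1`. -/
theorem card_DD_le {X : SL3 F} (hX : X ∉ Subgroup.center (SL3 F)) :
    Nat.card (DD X) ≤ (Nat.card F ^ 3 - 1) * (Nat.gcd 3 (Nat.card F - 1) * Nat.card F ^ 2) := by
  classical
  -- a vector which is not an eigenvector
  obtain ⟨v, hv⟩ : ∃ v : Fin 3 → F, LinearIndependent F ![v, act X v] := by
    by_contra hcon
    push Not at hcon
    obtain ⟨a, ha⟩ := LinearMap.exists_eq_smul_id_of_forall_notLinearIndependent (f := act X) hcon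
    apply hX
    rw [Matrix.SpecialLinearGroup.mem_center_iff]
    have hmat : (X : Matrix (Fin 3) (Fin 3) F) = scalar (Fin 3) a := by
      apply (toLinAlgEquiv' : Matrix (Fin 3) (Fin 3) F ≃ₐ[F] _).injective
      rw [← act_apply, ha]
      have : scalar (Fin 3) a = algebraMap F (Matrix (Fin 3) (Fin 3) F) a := rfl
      rw [this, AlgEquiv.commutes, Algebra.algebraMap_eq_smul_one]
    refine ⟨a, ?_, hmat.symm⟩
    have h4 := X.2
    rw [hmat] at h4
    simpa [Fintype.card_fin] using h4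
  -- a third vector
  obtain ⟨u, hu⟩ : ∃ u : Fin 3 → F, LinearIndependent F ![u, v, act X v] := by
    obtain ⟨u, hu⟩ := exists_linearIndependent_cons_of_lt_finrank hv (by rw [finrank_fin_fun]; norm_num)
    exact ⟨u, hu⟩
  let b : Fin 3 → Fin 3 → F := ![u, v, act X v]
  let P : Matrix (Fin 3) (Fin 3) F := (Matrix.of b)ᵀ
  have hP : IsUnit P := by
    rw [← Matrix.linearIndependent_cols_iff_isUnit]
    exact hu
  have hPc : ∀ j, P *ᵥ Pi.single j 1 = b j := fun j => by
    rw [Matrix.mulVec_single_one]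
    rfl
  have hPdet : IsUnit P.det := (Matrix.isUnit_iff_isUnit_det _).1 hP
  have hP1 : P⁻¹ * P = 1 := Matrix.nonsing_inv_mul P hPdet
  have hP2 : P * P⁻¹ = 1 := Matrix.mul_nonsing_inv P hPdet
  -- the action
  let D := DD X
  let _ : MulAction D (Fin 3 → F) := MulAction.compHom _ ((act (F := F) (n := 3)).comp D.subtype)
  let mt : SL3 F → Matrix (Fin 3) (Fin 3) F := fun g => g
  have hsm : ∀ (g : D) (w : Fin 3 → F), g • w = mt g *ᵥ w := fun _ _ => rfl
  have hmd : ∀ g : SL3 F, (mt g).det = 1 := fun g => g.2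
  have horb := Nat.card_congr (MulAction.orbitProdStabilizerEquivGroup D v)
  rw [Nat.card_prod] at horb
  have hv0 : v ≠ 0 := hv.ne_zero 0
  have h1 : Nat.card (MulAction.orbit D v) ≤ Nat.card F ^ 3 - 1 := by
    have h2 : Nat.card (MulAction.orbit D v) ≤ Nat.card {w : Fin 3 → F // w ≠ 0} := by
      refine Nat.card_le_card_of_injective (fun w => ⟨w.1, ?_⟩) ?_
      · rintro h0
        obtain ⟨w, g, rfl⟩ := w
        apply hv0
        have h3 : mt g *ᵥ v = 0 := h0
        exact Matrix.eq_zero_of_mulVec_eq_zero (by rw [hmd]; exact one_ne_zero) h3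
      · intro a b hab
        exact Subtype.ext (congrArg (fun w : {w : Fin 3 → F // w ≠ 0} => w.1) hab)
    refine h2.trans_eq ?_
    have : Fintype F := Fintype.ofFinite F
    rw [Nat.card_eq_fintype_card, Fintype.card_subtype_compl]
    simp
  have h2 : Nat.card (MulAction.stabilizer D v) ≤ Nat.gcd 3 (Nat.card F - 1) * Nat.card F ^ 2 := by
    let H : MulAction.stabilizer D v → Matrix (Fin 3) (Fin 3) F := fun g => P⁻¹ * mt (g : D) * P
    have hHm : ∀ (g : MulAction.stabilizer D v) (w : Fin 3 → F), H g *ᵥ w = P⁻¹ *ᵥ (mt (g : D) *ᵥ (P *ᵥ w)) := by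
      intro g w
      rw [Matrix.mulVec_mulVec, Matrix.mulVec_mulVec]
    have hPi : ∀ j, P⁻¹ *ᵥ b j = Pi.single j 1 := fun j => by
      rw [← hPc, Matrix.mulVec_mulVec, hP1, Matrix.one_mulVec]
    have hH1 : ∀ g : MulAction.stabilizer D v, H g *ᵥ Pi.single 1 1 = Pi.single 1 1 := by
      intro g
      rw [hHm, hPc]
      have h3 : mt (g : D) *ᵥ b 1 = b 1 := (MulAction.mem_stabilizer_iff.1 g.2)
      rw [h3, hPi]
    have hH2 : ∀ (g : MulAction.stabilizer D v) (c : F), mt (g : D) * mt X = c • (mt X * mt (g : D)) →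
        H g *ᵥ Pi.single 2 1 = c • Pi.single 2 1 := by
      intro g c hc
      rw [hHm, hPc]
      have h3 : mt (g : D) *ᵥ b 1 = b 1 := (MulAction.mem_stabilizer_iff.1 g.2)
      have h4 : b 2 = mt X *ᵥ b 1 := rfl
      have h5 : mt (g : D) *ᵥ b 2 = c • b 2 := by
        rw [h4, Matrix.mulVec_mulVec, hc, Matrix.smul_mulVec, ← Matrix.mulVec_mulVec, h3]
      rw [h5, Matrix.mulVec_smul, hPi]
    have hHdet : ∀ g : MulAction.stabilizer D v, (H g).det = 1 := by
      intro g
      rw [Matrix.det_mul, Matrix.det_mul, mul_right_comm, ← Matrix.det_mul, hP1, Matrix.det_one, one_mul]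
      exact hmd _
    have hinj : Function.Injective H := by
      intro g g' h
      have h3 : P * (H g) * P⁻¹ = P * (H g') * P⁻¹ := by rw [h]
      have h4 : ∀ A : Matrix (Fin 3) (Fin 3) F, P * (P⁻¹ * A * P) * P⁻¹ = A := by
        intro A
        calc P * (P⁻¹ * A * P) * P⁻¹ = (P * P⁻¹) * A * (P * P⁻¹) := by simp only [Matrix.mul_assoc]
          _ = A := by rw [hP2, Matrix.one_mul, Matrix.mul_one]
      have h5 : mt (g : D) = mt (g' : D) := by
        rw [← h4 (mt (g : D)), ← h4 (mt (g' : D))]; exact h3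
      exact Subtype.ext (Subtype.ext (Subtype.ext h5))
    have hcen := card_center_SL (F := F) (n := 3) (by norm_num)
    rw [← hcen, pow_two, ← Nat.card_prod, ← Nat.card_prod]
    refine Nat.card_le_card_of_injective (fun g => (⟨_, comm_mem_center (X := X) (g := (g : SL3 F)) (g : D).2⟩,
      (H g 1 0, H g 2 0))) ?_
    intro g g' h
    simp only [Prod.mk.injEq, Subtype.mk.injEq] at h
    obtain ⟨hz, h10, h20⟩ := h
    obtain ⟨c, hc3, hcz, hcm⟩ := exists_scalar (X := X) (g := (g : SL3 F)) (g : D).2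
    obtain ⟨c', hc3', hcz', hcm'⟩ := exists_scalar (X := X) (g := (g' : SL3 F)) (g' : D).2
    have hcc : c = c' := by
      have h3 : scalar (Fin 3) c = scalar (Fin 3) c' := by rw [← hcz, ← hcz', hz]
      have h4 := congrFun (congrFun h3 0) 0
      simpa using h4
    subst hcc
    have hc0 : c ≠ 0 := by
      rintro rfl
      rw [zero_pow (by norm_num)] at hc3
      exact zero_ne_one hc3
    apply hinj
    have e1 := hH1 g
    have e1' := hH1 g'
    have e2 := hH2 g c hcm
    have e2' := hH2 g' c hcm'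
    have d1 := hHdet g
    have d1' := hHdet g'
    rw [Matrix.mulVec_single_one] at e1 e1' e2 e2'
    generalize H g = A at *
    generalize H g' = B at *
    rw [Matrix.det_fin_three] at d1 d1'
    have a01 : A 0 1 = 0 := by simpa using congrFun e1 0
    have a11 : A 1 1 = 1 := by simpa using congrFun e1 1
    have a21 : A 2 1 = 0 := by simpa using congrFun e1 2
    have b01 : B 0 1 = 0 := by simpa using congrFun e1' 0
    have b11 : B 1 1 = 1 := by simpa using congrFun e1' 1
    have b21 : B 2 1 = 0 := by simpa using congrFun e1' 2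
    have a02 : A 0 2 = 0 := by simpa using congrFun e2 0
    have a12 : A 1 2 = 0 := by simpa using congrFun e2 1
    have a22 : A 2 2 = c := by simpa using congrFun e2 2
    have b02 : B 0 2 = 0 := by simpa using congrFun e2' 0
    have b12 : B 1 2 = 0 := by simpa using congrFun e2' 1
    have b22 : B 2 2 = c := by simpa using congrFun e2' 2
    rw [a01, a11, a21, a02, a12, a22] at d1
    rw [b01, b11, b21, b02, b12, b22] at d1'
    have h00 : A 0 0 = B 0 0 := by
      have h3 : A 0 0 * c = B 0 0 * c := by linear_combination d1 - d1'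
      exact mul_right_cancel₀ hc0 h3
    have hAB : ∀ i j, A i j = B i j := by
      intro i j
      fin_cases i <;> fin_cases j
      · exact h00
      · exact a01.trans b01.symm
      · exact a02.trans b02.symm
      · exact h10
      · exact a11.trans b11.symm
      · exact a12.trans b12.symm
      · exact h20
      · exact a21.trans b21.symm
      · exact a22.trans b22.symm
    exact Matrix.ext hAB
  calc Nat.card D = Nat.card (MulAction.orbit D v) * Nat.card (MulAction.stabilizer D v) := horb.symm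
    _ ≤ _ := Nat.mul_le_mul h1 h2

/-! ### The centralizer of a transvection -/

/-- `1 + E₁₂` -/
def e12 (F : Type u) [Field F] : SL3 F := ⟨!![1, 1, 0; 0, 1, 0; 0, 0, 1], by simp [Matrix.det_fin_three]⟩

/-- `1 + E₂₃` -/
def e23 (F : Type u) [Field F] : SL3 F := ⟨!![1, 0, 0; 0, 1, 1; 0, 0, 1], by simp [Matrix.det_fin_three]⟩

theorem card_DD_le_trans {X : SL3 F} (hX : X ∉ Subgroup.center (SL3 F)) (h12 : Commute (e12 F) X)
    (h23 : Commute (e23 F) X) : Nat.card (DD X) ≤ (Nat.card F - 1) * Nat.card F ^ 3 := by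
  classical
  let mt : SL3 F → Matrix (Fin 3) (Fin 3) F := fun g => g
  have hmd : ∀ g : SL3 F, (mt g).det = 1 := fun g => g.2
  have hmi : ∀ g h : SL3 F, mt g = mt h → g = h := fun g h e => Subtype.ext e
  have k12 : mt (e12 F) * mt X = mt X * mt (e12 F) := congrArg mt h12.eq
  have k23 : mt (e23 F) * mt X = mt X * mt (e23 F) := congrArg mt h23.eq
  have hX' : ∀ a : F, a ^ 3 = 1 → mt X ≠ scalar (Fin 3) a := by
    intro a ha h
    apply hX
    rw [Matrix.SpecialLinearGroup.mem_center_iff]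
    exact ⟨a, by rw [Fintype.card_fin]; exact ha, h.symm⟩
  have hd := hmd X
  have hsc : ∀ g ∈ DD X, ∃ c : F, c ^ 3 = 1 ∧ mt g * mt X = c • (mt X * mt g) := by
    intro g hg
    obtain ⟨c, hc, -, h⟩ := exists_scalar hg
    exact ⟨c, hc, h⟩
  generalize mt X = M at *
  have m12 : mt (e12 F) = !![1, 1, 0; 0, 1, 0; 0, 0, 1] := rfl
  have m23 : mt (e23 F) = !![1, 0, 0; 0, 1, 1; 0, 0, 1] := rfl
  rw [m12] at k12
  rw [m23] at k23
  have f : ∀ {A B : Matrix (Fin 3) (Fin 3) F}, A = B → ∀ i j, A i j = B i j := fun h i j => by rw [h]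
  have x10 : M 1 0 = 0 := by
    have := f k12 0 0
    simp [Matrix.mul_apply, Fin.sum_univ_three] at this
    exact this
  have x11 : M 1 1 = M 0 0 := by
    have := f k12 0 1
    simp [Matrix.mul_apply, Fin.sum_univ_three] at this
    linear_combination this
  have x12 : M 1 2 = 0 := by
    have := f k12 0 2
    simp [Matrix.mul_apply, Fin.sum_univ_three] at this
    exact this
  have x20 : M 2 0 = 0 := by
    have := f k12 2 1
    simp [Matrix.mul_apply, Fin.sum_univ_three] at this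
    exact this
  have x21 : M 2 1 = 0 := by
    have := f k23 1 1
    simp [Matrix.mul_apply, Fin.sum_univ_three] at this
    exact this
  have x22 : M 2 2 = M 0 0 := by
    have := f k23 1 2
    simp [Matrix.mul_apply, Fin.sum_univ_three] at this
    linear_combination this + x11
  have x01 : M 0 1 = 0 := by
    have := f k23 0 2
    simp [Matrix.mul_apply, Fin.sum_univ_three] at this
    exact this
  rw [Matrix.det_fin_three, x10, x11, x12, x20, x21, x22, x01] at hd
  have hl3 : M 0 0 ^ 3 = 1 := by linear_combination hd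
  have hl0 : M 0 0 ≠ 0 := by
    intro h
    rw [h, zero_pow (by norm_num)] at hl3
    exact zero_ne_one hl3
  have hb : M 0 2 ≠ 0 := by
    intro h
    apply hX' _ hl3
    ext i j
    fin_cases i <;> fin_cases j <;> simp [x10, x11, x12, x20, x21, x22, x01, h]
  have key : ∀ g ∈ DD X, mt g 2 0 = 0 ∧ mt g 2 1 = 0 ∧ mt g 2 2 = mt g 0 0 ∧ mt g 1 0 = 0 ∧
      mt g 0 0 * mt g 1 1 * mt g 0 0 = 1 := by
    intro g hg
    obtain ⟨c, hc, h⟩ := hsc g hg
    have hdg := hmd g
    generalize mt g = A at *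
    rw [Matrix.det_fin_three] at hdg
    have g1 := f h
    simp only [Matrix.mul_apply, Fin.sum_univ_three, Matrix.smul_apply, smul_eq_mul] at g1
    have g00 := g1 0 0
    have g01 := g1 0 1
    have g02 := g1 0 2
    have g10 := g1 1 0
    have g11 := g1 1 1
    have g12 := g1 1 2
    have g20 := g1 2 0
    have g21 := g1 2 1
    simp only [x10, x11, x12, x20, x21, x22, x01] at g00 g01 g02 g10 g11 g12 g20 g21
    have hc1 : c = 1 := by
      by_contra hc1
      have hc1' : 1 - c ≠ 0 := fun h => hc1 (by linear_combination -h)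
      have z : ∀ a : F, M 0 0 * a * (1 - c) = 0 → a = 0 := by
        intro a ha
        rcases mul_eq_zero.1 ha with h1 | h1
        · exact (mul_eq_zero.1 h1).resolve_left hl0
        · exact absurd h1 hc1'
      have a10 : A 1 0 = 0 := z _ (by linear_combination g10)
      have a11 : A 1 1 = 0 := z _ (by linear_combination g11)
      have a20 : A 2 0 = 0 := z _ (by linear_combination g20)
      have a21 : A 2 1 = 0 := z _ (by linear_combination g21)
      rw [a10, a11, a20, a21] at hdg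
      simp at hdg
    subst hc1
    have w : ∀ a : F, M 0 2 * a = 0 → a = 0 := fun a ha => (mul_eq_zero.1 ha).resolve_left hb
    have a20 : A 2 0 = 0 := w _ (by linear_combination -g00)
    have a21 : A 2 1 = 0 := w _ (by linear_combination -g01)
    have a22 : A 2 2 = A 0 0 := by
      have := w (A 2 2 - A 0 0) (by linear_combination -g02)
      linear_combination this
    have a10 : A 1 0 = 0 := w _ (by linear_combination g12)
    refine ⟨a20, a21, a22, a10, ?_⟩
    rw [a20, a21, a22, a10] at hdg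
    linear_combination hdg
  have hu : ∀ g : DD X, mt g 0 0 ≠ 0 := by
    intro g h
    have := (key g g.2).2.2.2.2
    rw [h] at this
    simp at this
  have hcu : Nat.card Fˣ = Nat.card F - 1 := Nat.card_units F
  rw [← hcu, pow_succ, pow_two, ← Nat.card_prod, ← Nat.card_prod, ← Nat.card_prod]
  refine Nat.card_le_card_of_injective (fun g : DD X => (Units.mk0 _ (hu g), ((mt g 0 1, mt g 0 2), mt g 1 2))) ?_
  intro g g' h
  simp only [Prod.mk.injEq] at h
  obtain ⟨h00, ⟨h01, h02⟩, h12⟩ := h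
  have h00' : mt g 0 0 = mt g' 0 0 := congrArg Units.val h00
  obtain ⟨a20, a21, a22, a10, ad⟩ := key g g.2
  obtain ⟨b20, b21, b22, b10, bd⟩ := key g' g'.2
  have h11 : mt g 1 1 = mt g' 1 1 := by
    have h3 : mt g 0 0 * mt g 0 0 * (mt g 1 1 - mt g' 1 1) = 0 := by
      rw [← h00'] at bd
      linear_combination ad - bd
    have h4 := (mul_eq_zero.1 h3).resolve_left (mul_ne_zero (hu g) (hu g))
    linear_combination h4
  apply Subtype.ext
  apply hmi
  have hAB : ∀ i j, mt g i j = mt g' i j := by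
    intro i j
    fin_cases i <;> fin_cases j
    · exact h00'
    · exact h01
    · exact h02
    · exact a10.trans b10.symm
    · exact h11
    · exact h12
    · exact a20.trans b20.symm
    · exact a21.trans b21.symm
    · exact (a22.trans h00').trans b22.symm
  exact Matrix.ext hAB

/-! ### The unitriangular group -/

/-- the upper unitriangular matrices -/
def UU (F : Type u) [Field F] : Subgroup (SL3 F) where
  carrier := {g | (g : Matrix (Fin 3) (Fin 3) F) 1 0 = 0 ∧ (g : Matrix (Fin 3) (Fin 3) F) 2 0 = 0 ∧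
    (g : Matrix (Fin 3) (Fin 3) F) 2 1 = 0 ∧ (g : Matrix (Fin 3) (Fin 3) F) 0 0 = 1 ∧
    (g : Matrix (Fin 3) (Fin 3) F) 1 1 = 1 ∧ (g : Matrix (Fin 3) (Fin 3) F) 2 2 = 1}
  mul_mem' := by
    rintro a b ⟨a1, a2, a3, a4, a5, a6⟩ ⟨b1, b2, b3, b4, b5, b6⟩
    simp only [Set.mem_ofPred_eq, Matrix.SpecialLinearGroup.coe_mul, Matrix.mul_apply, Fin.sum_univ_three,
      a1, a2, a3, a4, a5, a6, b1, b2, b3, b4, b5, b6]
    simp
  one_mem' := by simp
  inv_mem' := by
    rintro a ⟨a1, a2, a3, a4, a5, a6⟩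
    simp only [Set.mem_ofPred_eq, Matrix.SpecialLinearGroup.coe_inv, Matrix.adjugate_fin_three]
    simp [a1, a2, a3, a4, a5, a6]

omit [Finite F] in
theorem card_UU : Nat.card (UU F) = Nat.card F ^ 3 := by
  have h : Nat.card (UU F) = Nat.card (F × F × F) := by
    refine Nat.card_congr ⟨fun g => ((g : Matrix (Fin 3) (Fin 3) F) 0 1, (g : Matrix (Fin 3) (Fin 3) F) 0 2,
      (g : Matrix (Fin 3) (Fin 3) F) 1 2), fun t => ⟨⟨!![1, t.1, t.2.1; 0, 1, t.2.2; 0, 0, 1],
        by simp [Matrix.det_fin_three]⟩, by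
          refine ⟨?_, ?_, ?_, ?_, ?_, ?_⟩ <;> rfl⟩, ?_, ?_⟩
    · rintro ⟨g, a1, a2, a3, a4, a5, a6⟩
      apply Subtype.ext
      apply Subtype.ext
      apply Matrix.ext
      intro i j
      fin_cases i <;> fin_cases j
      · exact a4.symm
      · rfl
      · rfl
      · exact a1.symm
      · exact a5.symm
      · rfl
      · exact a2.symm
      · exact a3.symm
      · exact a6.symm
    · rintro ⟨a, b, c⟩
      rfl
  rw [h, Nat.card_prod, Nat.card_prod]
  ring

omit [Finite F] in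
theorem e12_mem : e12 F ∈ UU F := by
  refine ⟨?_, ?_, ?_, ?_, ?_, ?_⟩ <;> rfl

omit [Finite F] in
theorem e23_mem : e23 F ∈ UU F := by
  refine ⟨?_, ?_, ?_, ?_, ?_, ?_⟩ <;> rfl

/-- The order of `PSL₃(q)`. -/
theorem card_psl_three : Nat.gcd 3 (Nat.card F - 1) * Nat.card (ProjectiveSpecialLinearGroup (Fin 3) F) =
    Nat.card F ^ 3 * ((Nat.card F ^ 2 - 1) * (Nat.card F ^ 3 - 1)) := by
  have : Fintype F := Fintype.ofFinite F
  have h1 := Cfsg.Agent.S0243.result (F := F) rfl 3 (by norm_num)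
  rw [Fin.prod_univ_three, ← Nat.card_eq_fintype_card] at h1
  have hq : 1 < Nat.card F := Finite.one_lt_card
  generalize Nat.card (ProjectiveSpecialLinearGroup (Fin 3) F) = N at h1 ⊢
  generalize Nat.card F = q at h1 hq ⊢
  generalize Nat.gcd 3 (q - 1) = d at h1 ⊢
  have e1 : q ^ 3 - q ^ ((0 : Fin 3) : ℕ) = q ^ 3 - 1 := by simp
  have e2 : q ^ 3 - q ^ ((1 : Fin 3) : ℕ) = q * (q ^ 2 - 1) := by
    simp only [Fin.val_one, pow_one]
    rw [Nat.mul_sub, mul_one]
    congr 1
    ring
  have e3 : q ^ 3 - q ^ ((2 : Fin 3) : ℕ) = q ^ 2 * (q - 1) := by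
    have : ((2 : Fin 3) : ℕ) = 2 := rfl
    rw [this, Nat.mul_sub, mul_one]
    congr 1
  rw [e1, e2, e3] at h1
  have h2 : (q - 1) * (d * N) = (q - 1) * (q ^ 3 * ((q ^ 2 - 1) * (q ^ 3 - 1))) := by
    calc (q - 1) * (d * N) = d * ((q - 1) * N) := by ring
      _ = _ := h1
      _ = _ := by ring
  exact Nat.eq_of_mul_eq_mul_left (by omega) h2

theorem card_SL3 : Nat.card (SL3 F) = Nat.card F ^ 3 * ((Nat.card F ^ 2 - 1) * (Nat.card F ^ 3 - 1)) := by
  rw [← card_psl_three]
  have h := card_comap_pr (F := F) (n := 3) (by norm_num) ⊤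
  rw [Subgroup.comap_top, Subgroup.card_top, Subgroup.card_top] at h
  exact h

/-- **Class bound, second form**: an element commuting with a Sylow `p`-subgroup. -/
theorem card_cent_le_of_dvd {s : ProjectiveSpecialLinearGroup (Fin 3) F} (hs : s ≠ 1)
    (hq : Nat.card F ^ 3 ∣ Nat.card (Subgroup.centralizer ({s} : Set (ProjectiveSpecialLinearGroup (Fin 3) F)))) :
    Nat.gcd 3 (Nat.card F - 1) *
      Nat.card (Subgroup.centralizer ({s} : Set (ProjectiveSpecialLinearGroup (Fin 3) F))) ≤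
      (Nat.card F - 1) * Nat.card F ^ 3 := by
  obtain ⟨p, hchar⟩ := CharP.exists F
  have hF : Fintype F := Fintype.ofFinite F
  obtain ⟨f, hp, hf⟩ := FiniteField.card F p
  rw [← Nat.card_eq_fintype_card] at hf
  have hpf : Fact p.Prime := ⟨hp⟩
  have hq1 : 1 < Nat.card F := Finite.one_lt_card
  have hpq : p ∣ Nat.card F := by rw [hf]; exact dvd_pow_self p f.ne_zero
  have hpk : ∀ k, 0 < k → ¬ p ∣ Nat.card F ^ k - 1 := by
    intro k hk h
    have h1 : p ∣ Nat.card F ^ k := dvd_pow hpq hk.ne'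
    have h2 : 1 ≤ Nat.card F ^ k := Nat.one_le_pow _ _ (by omega)
    have h3 := Nat.dvd_sub h1 h
    rw [Nat.sub_sub_self h2] at h3
    exact hp.one_lt.ne' (Nat.dvd_one.mp h3)
  have hpN : ¬ p ∣ (Nat.card F ^ 2 - 1) * (Nat.card F ^ 3 - 1) := by
    rw [hp.dvd_mul]
    exact fun h => h.elim (hpk 2 (by norm_num)) (hpk 3 (by norm_num))
  obtain ⟨X, rfl⟩ := pr_surjective s
  have hXc : X ∉ Subgroup.center (SL3 F) := fun h => hs (pr_eq_one.2 h)
  have hDD := card_comap_pr (F := F) (n := 3) (by norm_num)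
    (Subgroup.centralizer ({pr F 3 X} : Set (ProjectiveSpecialLinearGroup (Fin 3) F)))
  have hq3 : Nat.card F ^ 3 = p ^ (f * 3 : ℕ) := by rw [hf, pow_mul]
  have hdv : p ^ (f * 3 : ℕ) ∣ Nat.card (DD X) := by
    rw [hDD, ← hq3]; exact hq.mul_left _
  obtain ⟨K, hK⟩ := Sylow.exists_subgroup_card_pow_prime p hdv
  have hsyl : ∀ H : Subgroup (SL3 F), Nat.card H = p ^ (f * 3 : ℕ) → ¬ p ∣ H.index := by
    intro H hH h
    have h1 := H.card_mul_index
    rw [hH, card_SL3, hq3] at h1
    rw [Nat.eq_of_mul_eq_mul_left (pow_pos hp.pos _) h1] at h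
    rw [← hq3] at h
    exact hpN h
  have hK' : Nat.card (K.map (DD X).subtype) = p ^ (f * 3 : ℕ) := by
    rw [Subgroup.card_map_of_injective (DD X).subtype_injective, hK]
  have hU' : Nat.card (UU F) = p ^ (f * 3 : ℕ) := by rw [card_UU, hq3]
  let S1 : Sylow p (SL3 F) := (IsPGroup.of_card hK').toSylow (hsyl _ hK')
  let S2 : Sylow p (SL3 F) := (IsPGroup.of_card hU').toSylow (hsyl _ hU')
  obtain ⟨g, hg⟩ := MulAction.exists_smul_eq (SL3 F) S1 S2
  have hmem : ∀ u ∈ UU F, g⁻¹ * u * g ∈ DD X := by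
    intro u hu
    have h1 : u ∈ ((g • S1 : Sylow p (SL3 F)) : Subgroup (SL3 F)) := by rw [hg]; exact hu
    rw [Sylow.coe_subgroup_smul, Subgroup.mem_smul_pointwise_iff_exists] at h1
    obtain ⟨k, hk, hku⟩ := h1
    obtain ⟨k', -, rfl⟩ := Subgroup.mem_map.1 (show k ∈ K.map (DD X).subtype from hk)
    have h2 : g⁻¹ * u * g = (k' : SL3 F) := by
      rw [← hku]
      show g⁻¹ * (g * (k' : SL3 F) * g⁻¹) * g = _
      group
    rw [h2]
    exact k'.2
  set X' := g * X * g⁻¹ with hX'
  have hXc' : X' ∉ Subgroup.center (SL3 F) := by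
    intro h
    apply hXc
    have h1 : X = g⁻¹ * X' * g⁻¹⁻¹ := by rw [hX']; group
    rw [h1]
    exact (inferInstance : (Subgroup.center (SL3 F)).Normal).conj_mem _ h _
  have hcomm : ∀ u ∈ UU F, Commute u X' := by
    intro u hu
    have h1 : Commute (pr F 3 X) (pr F 3 (g⁻¹ * u * g)) :=
      (Subgroup.mem_centralizer_iff.1 (Subgroup.mem_comap.1 (hmem u hu))) _ rfl
    have h2 : Commute (pr F 3 u) (pr F 3 X') := by
      have h3 : pr F 3 u = pr F 3 g * pr F 3 (g⁻¹ * u * g) * (pr F 3 g)⁻¹ := by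
        rw [← map_inv, ← map_mul, ← map_mul]; congr 1; group
      have h4 : pr F 3 X' = pr F 3 g * pr F 3 X * (pr F 3 g)⁻¹ := by
        rw [hX', map_mul, map_mul, map_inv]
      rw [h3, h4]
      exact (Commute.conj_iff _).2 h1.symm
    refine commute_of_coprime h2 (k := p ^ (f * 3 : ℕ)) ?_ ?_
    · have h3 : (⟨u, hu⟩ : UU F) ^ Nat.card (UU F) = 1 := pow_card_eq_one'
      rw [hU'] at h3
      exact congrArg Subtype.val h3
    · apply Nat.Coprime.pow_left
      rw [Nat.Prime.coprime_iff_not_dvd hp]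
      intro h
      apply hpk 1 one_pos
      rw [pow_one]
      exact h.trans (Nat.gcd_dvd_right _ _)
  have hle := card_DD_le_trans hXc' (hcomm _ e12_mem) (hcomm _ e23_mem)
  have hDD' := card_comap_pr (F := F) (n := 3) (by norm_num)
    (Subgroup.centralizer ({pr F 3 X'} : Set (ProjectiveSpecialLinearGroup (Fin 3) F)))
  rw [show DD X' = (Subgroup.centralizer ({pr F 3 X'} : Set (ProjectiveSpecialLinearGroup (Fin 3) F))).comap (pr F 3) from rfl,
    hDD'] at hle
  have hconj := Cfsg.Agent.H431.CS.card_cent_congr (MulAut.conj (pr F 3 g)) (pr F 3 X)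
  have h4 : MulAut.conj (pr F 3 g) (pr F 3 X) = pr F 3 X' := by
    rw [MulAut.conj_apply, hX', map_mul, map_mul, map_inv]
  rw [hconj, h4]
  exact hle

/-- **Class bound, first form**, in `PSL₃(q)`. -/
theorem card_cent_le {s : ProjectiveSpecialLinearGroup (Fin 3) F} (hs : s ≠ 1) :
    Nat.card (Subgroup.centralizer ({s} : Set (ProjectiveSpecialLinearGroup (Fin 3) F))) ≤
      (Nat.card F ^ 3 - 1) * Nat.card F ^ 2 := by
  obtain ⟨X, rfl⟩ := pr_surjective s
  have hXc : X ∉ Subgroup.center (SL3 F) := fun h => hs (pr_eq_one.2 h)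
  have hDD := card_comap_pr (F := F) (n := 3) (by norm_num)
    (Subgroup.centralizer ({pr F 3 X} : Set (ProjectiveSpecialLinearGroup (Fin 3) F)))
  have h1 := card_DD_le hXc
  rw [show DD X = (Subgroup.centralizer ({pr F 3 X} : Set (ProjectiveSpecialLinearGroup (Fin 3) F))).comap (pr F 3) from rfl,
    hDD, show (Nat.card F ^ 3 - 1) * (Nat.gcd 3 (Nat.card F - 1) * Nat.card F ^ 2) =
      Nat.gcd 3 (Nat.card F - 1) * ((Nat.card F ^ 3 - 1) * Nat.card F ^ 2) by ring] at h1
  exact Nat.le_of_mul_le_mul_left h1 (Nat.gcd_pos_of_pos_left _ (by norm_num))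

end Cfsg.Agent.H881.CS
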